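import Cfsg.Agent.H0.OCo2.D
set_option maxRecDepth 100000
set_option Elab.async false
set_option linter.unusedSectionVars false
namespace H0.OCo2
open H0 BN 
theorem defs_ok : DefsOK R.p defs 18 := defsOK_of_chk c53
universe u
variable {G : Type u} [Group G] [Finite G] (m0 : Model G) (h0 : m0.R = H6M.MCo2.R)
noncomputable def m : Model G := m0.ext (lg := nat_lit 12) (N := nat_lit 4096) (l := H6M.MCo2.nl) h0 nl nl_ok 18 rfl defs defs_ok (by decide +kernel)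
theorem mR : (m m0 h0).R = R := rfl
variable (hb : m0.pst [1625, 1409, 570, 569, 1, 0] = ⊥) (hc : Nat.card G = 42305421312000)
include h0 hb hc
theorem base : (m m0 h0).pst [1625, 1409, 570, 569, 1, 0] = ⊥ := hb
omit hb hc in
theorem xch_ok : (m m0 h0).ChainOK xch [] := ((m m0 h0).chain_cons [0, 1, 0, 1, 0, 1, 0, 1, 0, 1, 0, 1, 0, 1, 0, 1, 0, 1, 0] (Model.via _ (mR m0 h0) (fun R => Model.fixP R [] [[21], [22]]) c10) (Model.via _ (mR m0 h0) (fun R => Model.growP R [[21], [22]] [0, 1, 0, 1, 0, 1, 0, 1, 0, 1, 0, 1, 0, 1, 0, 1, 0, 1, 0] 1195 2300) c11) ((m m0 h0).chain_cons [0, 1, 0, 1, 0, 1, 0, 1, 0, 1, 0, 1, 0, 1, 0, 1, 0, 0] (Model.via _ (mR m0 h0) (fun R => Model.fixP R [1195] [[23], [24]]) c8) (Model.via _ (mR m0 h0) (fun R => Model.growP R [[23], [24]] [0, 1, 0, 1, 0, 1, 0, 1, 0, 1, 0, 1, 0, 1, 0, 1, 0, 0] 2283 891) c9) ((m m0 h0).chain_cons [0, 1, 0, 1, 0, 1, 0, 1, 0, 1, 0, 1, 0, 1, 0, 1] (Model.via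 _ (mR m0 h0) (fun R => Model.fixP R [2283, 1195] [[25], [26]]) c6) (Model.via _ (mR m0 h0) (fun R => Model.growP R [[25], [26]] [0, 1, 0, 1, 0, 1, 0, 1, 0, 1, 0, 1, 0, 1, 0, 1] 1661 336) c7) ((m m0 h0).chain_cons [0, 1, 0, 1, 0, 1, 0, 1, 0, 1, 0, 1, 0] (Model.via _ (mR m0 h0) (fun R => Model.fixP R [1661, 2283, 1195] [[27], [28]]) c4) (Model.via _ (mR m0 h0) (fun R => Model.growP R [[27], [28]] [0, 1, 0, 1, 0, 1, 0, 1, 0, 1, 0, 1, 0] 1928 160) c5) ((m m0 h0).chain_cons [0, 2, 0, 2, 0, 1, 2, 0, 2, 0] (Model.via _ (mR m0 h0) (fun R => Model.fixP R [1928, 1661, 2283, 1195] [[29], [30], [31]]) c2) (Model.via _ (mR m0 h0) (fun R => Model.growP R [[29], [30], [31]] [0, 2, 0, 2, 0, 1, 2, 0, 2, 0] 1532 64) c3) ((m m0 h0).chain_cons [0, 1, 0] (Model.via _ (mR m0 h0) (fun R => Model.fixP R [1532, 1928, 1661, 2283, 1195] [[32], [33]]) c0) (Model.via _ (mR m0 h0) (fun R => Model.growP R [[32], [33]] [0, 1,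 0] 821 6) c1) ((m m0 h0).chain_nil _)))))))
theorem xtop : gen (m m0 h0).g (Model.cgens xch) = ⊤ := (m m0 h0).chain_top (xch_ok m0 h0) (hc.trans (by decide +kernel))
theorem xbdd : (m m0 h0).Bdd := (m m0 h0).bdd_of_top (xtop m0 h0 hb hc)
theorem xot : (m m0 h0).OTOK xOT := ((m m0 h0).otok_cons (xch_ok m0 h0) (hc.trans (by decide +kernel)) 1 rfl (Model.via _ (mR m0 h0) (fun R => Model.invB R (Model.cgens (xch.drop 1)) xO0) c18) ((m m0 h0).otok_cons (xch_ok m0 h0) (hc.trans (by decide +kernel)) 1 rfl (Model.via _ (mR m0 h0) (fun R => Model.invB R (Model.cgens (xch.drop 1)) xO1) c17) ((m m0 h0).otok_cons (xch_ok m0 h0) (hc.trans (by decide +kernel)) 0 rfl (Model.via _ (mR m0 h0) (fun R => Model.invB R (Model.cgens (xch.drop 0)) xO2) c16) (m m0 h0).otok_nil)))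
theorem xcm : ∀ w ∈ xCg, (m m0 h0).Cm [[18]] (ev (m m0 h0).g w) := (m m0 h0).cm_of_pairs (all_take_done (all_take_step (all_take_zero _ (xCg.flatMap fun w => [[18]].map fun y => (w ++ y, y ++ w))) ((m m0 h0).pairs_of (base m0 h0 hb hc) (Model.via _ (mR m0 h0) (fun R => pairsB R [1625, 1409, 570, 569, 1, 0] (((xCg.flatMap fun w => [[18]].map fun y => (w ++ y, y ++ w)).drop 0).take 1)) c19))) (by decide +kernel))
theorem xn1 : (m m0 h0).Sol [[18]] xCg [1526, 821, 1532, 1928, 1661, 2283, 1195] [1526, 821, 1532, 1928, 1661, 2283, 1195] := (m m0 h0).sol_done [1, 2, 3, 4, 5, 6] (((m m0 h0).chain_bot (xch_ok m0 h0) (hc.trans (by decide +kernel))).le.trans bot_le) (by decide +kernel)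
theorem xn0 : (m m0 h0).Sol [[18]] xCg [] [] := (m m0 h0).sol_free (xbdd m0 h0 hb hc) (xcm m0 h0 hb hc) (xot m0 h0 hb hc) ((m m0 h0).excl_zero _ _) (Model.via _ (mR m0 h0) (fun R => freeB R xOT [[18]] xCg [] [] [] [] 1195 0 [([], 1195, 2)] [[0]] [0, 0, 0, 0, 0, 0, 0, 0, 0, 0, 0, 0, 0, 0, 0, 0, 0, 0, 0, 0, 0, 0] xc15) c15) ((m m0 h0).solL_leaves (xot m0 h0 hb hc) [0] (Bc := [1526, 821, 1532, 1928, 1661, 2283, 1195]) (Model.via _ (mR m0 h0) (fun R => cycB R (subst [[18]] [0]) [1526, 821, 1532, 1928, 1661, 2283, 1195]) c12) (Model.via _ (mR m0 h0) (fun R => allL (leafB R xOT (subst [[18]] [0]) [1, 2, 3, 4, 5, 6] [1526, 821, 1532, 1928, 1661, 2283, 1195] [] []) xL14) c14) ((m m0 h0).solL_cons ((m m0 h0).sol_cyc [0] (Bc := [1526, 821, 1532, 1928, 1661, 2283, 1195]) (T := [1526, 821, 1532, 1928, 1661, 2283, 1195]) rfl (Model.via _ (mR m0 h0) (fun R => cycB R (subst [[18]] [0]) [1526, 821, 1532, 1928,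 1661, 2283, 1195]) c12) (Model.via _ (mR m0 h0) (fun R => cycB R (subst [[18]] [0]) [1526, 821, 1532, 1928, 1661, 2283, 1195]) c13) (xn1 m0 h0 hb hc)) (m m0 h0).solL_nil))
theorem xsol : (m m0 h0).Sol [[18]] xCg [] [] := xn0 m0 h0 hb hc
omit hb hc in
theorem ych_ok : (m m0 h0).ChainOK ych [] := ((m m0 h0).chain_cons [0, 1, 0, 1, 0, 1, 0, 1, 0, 1, 0, 1, 0, 1, 0, 1, 0, 1, 0, 0] (Model.via _ (mR m0 h0) (fun R => Model.fixP R [] [[21], [22]]) c32) (Model.via _ (mR m0 h0) (fun R => Model.growP R [[21], [22]] [0, 1, 0, 1, 0, 1, 0, 1, 0, 1, 0, 1, 0, 1, 0, 1, 0, 1, 0, 0] 785 2300) c33) ((m m0 h0).chain_cons [0, 1, 0, 1, 0, 1, 0, 1, 0, 1, 0, 1, 0, 1, 0, 1, 0, 0] (Model.via _ (mR m0 h0) (fun R => Model.fixP R [785] [[34], [35]]) c30) (Model.via _ (mR m0 h0) (fun R => Model.growP R [[34], [35]] [0, 1, 0, 1, 0, 1, 0, 1, 0, 1, 0, 1, 0, 1, 0, 1, 0, 0] 1475 891) c31) ((m m0 h0).chain_cons [0, 1, 0, 1, 0, 1,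 0, 1, 0, 1, 0, 1, 0, 1, 0] (Model.via _ (mR m0 h0) (fun R => Model.fixP R [1475, 785] [[36], [37]]) c28) (Model.via _ (mR m0 h0) (fun R => Model.growP R [[36], [37]] [0, 1, 0, 1, 0, 1, 0, 1, 0, 1, 0, 1, 0, 1, 0] 769 336) c29) ((m m0 h0).chain_cons [0, 1, 0, 1, 0, 1, 0, 1, 0, 1, 0, 1, 1] (Model.via _ (mR m0 h0) (fun R => Model.fixP R [769, 1475, 785] [[38], [39]]) c26) (Model.via _ (mR m0 h0) (fun R => Model.growP R [[38], [39]] [0, 1, 0, 1, 0, 1, 0, 1, 0, 1, 0, 1, 1] 591 160) c27) ((m m0 h0).chain_cons [0, 0, 1, 1, 0, 1, 0, 0] (Model.via _ (mR m0 h0) (fun R => Model.fixP R [591, 769, 1475, 785] [[40], [41]]) c24) (Model.via _ (mR m0 h0) (fun R => Model.growP R [[40], [41]] [0, 0, 1, 1, 0, 1, 0, 0] 874 16) c25) ((m m0 h0).chain_cons [0, 1, 0, 1, 0] (Model.via _ (mR m0 h0) (fun R => Model.fixP R [874, 591, 769, 1475, 785] [[42], [43]]) c22) (Model.via _ (mR m0 h0) (fun R => Model.growP R [[42],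 [43]] [0, 1, 0, 1, 0] 1040 12) c23) ((m m0 h0).chain_cons [0] (Model.via _ (mR m0 h0) (fun R => Model.fixP R [1040, 874, 591, 769, 1475, 785] [[44]]) c20) (Model.via _ (mR m0 h0) (fun R => Model.growP R [[44]] [0] 947 2) c21) ((m m0 h0).chain_nil _))))))))
theorem ytop : gen (m m0 h0).g (Model.cgens ych) = ⊤ := (m m0 h0).chain_top (ych_ok m0 h0) (hc.trans (by decide +kernel))
theorem ybdd : (m m0 h0).Bdd := (m m0 h0).bdd_of_top (ytop m0 h0 hb hc)
theorem yot : (m m0 h0).OTOK yOT := ((m m0 h0).otok_cons (ych_ok m0 h0) (hc.trans (by decide +kernel)) 2 rfl (Model.via _ (mR m0 h0) (fun R => Model.invB R (Model.cgens (ych.drop 2)) yO0) c47) ((m m0 h0).otok_cons (ych_ok m0 h0) (hc.trans (by decide +kernel)) 2 rfl (Model.via _ (mR m0 h0) (fun R => Model.invB R (Model.cgens (ych.drop 2)) yO1) c46) ((m m0 h0).otok_cons (ych_ok m0 h0) (hc.trans (by decide +kernel)) 2 rfl (Model.via _ (mR m0 h0) (fun R =>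 Model.invB R (Model.cgens (ych.drop 2)) yO2) c45) ((m m0 h0).otok_cons (ych_ok m0 h0) (hc.trans (by decide +kernel)) 6 rfl (Model.via _ (mR m0 h0) (fun R => Model.invB R (Model.cgens (ych.drop 6)) yO3) c44) ((m m0 h0).otok_cons (ych_ok m0 h0) (hc.trans (by decide +kernel)) 1 rfl (Model.via _ (mR m0 h0) (fun R => Model.invB R (Model.cgens (ych.drop 1)) yO4) c43) ((m m0 h0).otok_cons (ych_ok m0 h0) (hc.trans (by decide +kernel)) 0 rfl (Model.via _ (mR m0 h0) (fun R => Model.invB R (Model.cgens (ych.drop 0)) yO5) c42) (m m0 h0).otok_nil))))))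
theorem ycm : ∀ w ∈ yCg, (m m0 h0).Cm [[19]] (ev (m m0 h0).g w) := (m m0 h0).cm_of_pairs (all_take_done (all_take_step (all_take_zero _ (yCg.flatMap fun w => [[19]].map fun y => (w ++ y, y ++ w))) ((m m0 h0).pairs_of (base m0 h0 hb hc) (Model.via _ (mR m0 h0) (fun R => pairsB R [1625, 1409, 570, 569, 1, 0] (((yCg.flatMap fun w => [[19]].map fun y => (w ++ y, y ++ w)).drop 0).take 1)) c48))) (by decide +kernel))
theorem yn2 : (m m0 h0).Sol [[19]] yCg [947, 1040, 874, 591, 769, 1475, 785] [947, 1040, 874, 591, 769, 1475, 785] := (m m0 h0).sol_done [0, 1, 2, 3, 4, 5, 6] (((m m0 h0).chain_bot (ych_ok m0 h0) (hc.trans (by decide +kernel))).le.trans bot_le) (by decide +kernel)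
theorem yn1 : (m m0 h0).Sol [[19]] yCg [785] [785] := (m m0 h0).sol_free (ybdd m0 h0 hb hc) (ycm m0 h0 hb hc) (yot m0 h0 hb hc) ((m m0 h0).excl_zero _ _) (Model.via _ (mR m0 h0) (fun R => freeB R yOT [[19]] yCg [0] [785] [785] [] 1475 0 [([], 1475, 4)] [[0]] [0, 0, 0, 0, 0, 0, 0, 0, 0, 0] yc38) c38) ((m m0 h0).solL_leaves (yot m0 h0 hb hc) [0] (Bc := [947, 1040, 874, 591, 769, 1475]) (Model.via _ (mR m0 h0) (fun R => cycB R (subst [[19]] [0]) [947, 1040, 874, 591, 769, 1475]) c35) (Model.via _ (mR m0 h0) (fun R => allL (leafB R yOT (subst [[19]] [0]) [0, 1, 2, 3, 4, 5, 6] [947, 1040, 874, 591, 769, 1475] [785] [785]) yL37) c37) ((m m0 h0).solL_cons ((m m0 h0).sol_cyc [0] (Bc := [947, 1040, 874, 591, 769, 1475]) (T := [947, 1040, 874, 591, 769, 1475]) rfl (Model.via _ (mR m0 h0) (fun R => cycB R (subst [[19]] [0]) [947, 1040, 874, 591, 769, 1475]) c35) (Model.via _ (mR m0 h0) (fun R => cycB R (subst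 [[19]] [0]) [947, 1040, 874, 591, 769, 1475]) c36) (yn2 m0 h0 hb hc)) (m m0 h0).solL_nil))
theorem yn0 : (m m0 h0).Sol [[19]] yCg [] [] := (m m0 h0).sol_free (ybdd m0 h0 hb hc) (ycm m0 h0 hb hc) (yot m0 h0 hb hc) ((m m0 h0).excl_mov (ybdd m0 h0 hb hc) [0] (Model.via _ (mR m0 h0) (fun R => exclB R (subst [[19]] [0]) 785 yD0) c40)) (Model.via _ (mR m0 h0) (fun R => freeB R yOT [[19]] yCg [] [] [] [] 785 yD0 [([], 785, 5)] [[0]] [] yc41) c41) ((m m0 h0).solL_cons ((m m0 h0).sol_cyc [] (Bc := [785]) (T := [785]) rfl (Model.via _ (mR m0 h0) (fun R => cycB R (subst [[19]] []) [785]) c34) (Model.via _ (mR m0 h0) (fun R => cycB R (subst [[19]] []) [785]) c39) (yn1 m0 h0 hb hc)) (m m0 h0).solL_nil)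
theorem ysol : (m m0 h0).Sol [[19]] yCg [] [] := yn0 m0 h0 hb hc
theorem inj : Function.Injective (m m0 h0).φ := (m m0 h0).inj_of_base (base m0 h0 hb hc)
theorem gtop : gen (m m0 h0).g ([18, 19, 20].map fun x => [x]) = ⊤ :=
  top_of_marks ((m m0 h0).defsOK_g (inj m0 h0 hb hc) ((mR m0 h0).symm ▸ defs_ok)) _ (xtop m0 h0 hb hc) (by decide +kernel)
theorem cl : ∀ k ∈ Subgroup.centralizer {ev (m m0 h0).g [19]}, ∃ w ∈ CL, k = ev (m m0 h0).g w := fun k hk =>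
  list_closed (all_take_done (all_take_step (all_take_zero _ CE) ((m m0 h0).pairs_of (base m0 h0 hb hc) (Model.via _ (mR m0 h0) (fun R => pairsB R [1625, 1409, 570, 569, 1, 0] ((CE.drop 0).take 11)) c49))) (by decide +kernel)) (by decide +kernel) k ((m m0 h0).cent_le (ysol m0 h0 hb hc) hk)
theorem ocl : (m m0 h0).OutCl 18 19 20 [(1, [])] :=
  (m m0 h0).outCl (r := 23) (t := 2) (s := 11) (e := 1) (n := 10) (K := [1, 5]) (RL := RL) (EL := EL) hc (by decide +kernel) (by decide +kernel)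
    (all_take_done (all_take_step (all_take_zero _ (Model.outE 18 19 20 [19] 23 2 1 10 RL)) ((m m0 h0).pairs_of (base m0 h0 hb hc) (Model.via _ (mR m0 h0) (fun R => pairsB R [1625, 1409, 570, 569, 1, 0] (((Model.outE 18 19 20 [19] 23 2 1 10 RL).drop 0).take 7)) c50))) (by decide +kernel)) ((m m0 h0).ne_of_neB (Model.via _ (mR m0 h0) (fun R => neB R [18] [] 0 833 0) c51)) (xsol m0 h0 hb hc) (cl m0 h0 hb hc)
    (by decide +kernel) (by decide +kernel) (all_take_done (all_take_step (all_take_zero _ EL) (allL_spec (Model.via _ (mR m0 h0) (fun R => allL (elimB R 18 19 20 RL [(1, [])]) ((EL.drop 0).take 22)) c52))) (by decide +kernel))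
theorem out : Nat.card (Cfsg.Out G) = 1 := (m m0 h0).out_one (gtop m0 h0 hb hc) (ocl m0 h0 hb hc)
end H0.OCo2
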